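import Cfsg.Agent.Mrg.Omega.NOThreeL.JQ
import Cfsg.Agent.Mrg.Omega.NOThreeL.RRed.Glue


/-!
# NO-3L, box R: THEOREM SIGMA (#22781), the glue (helper831)

`C_P = C_G(C_Z(P))` for `P ∈ P*(S)` (`CP S P`).

* `L1 S` : `C_Z(P) = 1` for some `P ∈ P*(S)`;
* `L2 S` : `⟨C_P, C_P'⟩` is nonlocal for some `P, P' ∈ P*(S)`;
* `Out S A R₀` : the output of `sigma` for the family `{C_P}`;
* `out_of` : not (L1) and not (L2) give `Out`;
* `EndA K`, `EndT K` : **sockets**: `Out` is impossible (for `EndT` only if `Thin S`: all `|Z : C_Z(P)| = 2`);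
* `RSig K`, `RSigT K` : box R with not (L1), not (L2), resp. with `Thin S` and not (L2); `rsig_of`, `rsigT_of`;
* `RFourL K`, `RWideL K`, `RBzL K`, `RBzT K` : the sockets with (L2), resp. (L1) or (L2);
* `rrank_of`, `rfour_of`, `rwide_of`, `rbz_of`, `rbz_ofT`, `rbc_sig`, `rbc_sigT`, `rg_sig`, `rg_sigT`.
-/

set_option autoImplicit false
set_option linter.unusedSectionVars false
set_option linter.unusedVariables false

namespace Cfsg.Agent.Omega.NOThreeL.Sigma

open Subgroup Cfsg Cfsg.Agent.ZN Cfsg.Agent.Omega.MinPar Cfsg.Agent.Omega.Frame Cfsg.Agent.Omega.FrameNOFF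
open Cfsg.Agent.Omega.Node.NO3L Cfsg.Agent.Omega.NOThreeL.Basic Cfsg.Agent.Omega.NOThreeL.RTree
open Cfsg.Agent.Omega.NOThreeL.RRed (Thin RC RRank RFour RWide LineS SideS TCR)
open Cfsg.Agent.Omega.NOThreeL.Merge (MZ)
open Cfsg.Agent.Omega.NOThreeL.ZCut (FZ)
open Cfsg.Agent.Omega.NO3b.Bang (bang)
open Cfsg.Agent.Omega.NoFF.ThmJQ (MxIn)
open Cfsg.Agent.Omega.ML.Final (MLK)

universe u

section defs

variable {G : Type u} [Group G]

/-- `C_Z(P)` -/
def ZP (S P : Subgroup G) : Subgroup G := zc S ⊓ centralizer (P : Set G)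

/-- `C_P = C_G(C_Z(P))` -/
def CP (S P : Subgroup G) : Subgroup G := centralizer (ZP S P : Set G)

/-- (L1) -/
def L1 (S : Subgroup G) : Prop := ∃ P, IsParS S P ∧ zc S ⊓ centralizer (P : Set G) = ⊥

/-- (L2) -/
def L2 (S : Subgroup G) : Prop :=
  ∃ P P', IsParS S P ∧ IsParS S P' ∧
    NonLoc (centralizer ((zc S ⊓ centralizer (P : Set G) : Subgroup G) : Set G))
      (centralizer ((zc S ⊓ centralizer (P' : Set G) : Subgroup G) : Set G))

/-- the family -/
def fam (S : Subgroup G) : Set (Subgroup G) := {R | ∃ P, IsParS S P ∧ R = CP S P}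

/-- the output of `sigma` for the family `{C_P}` -/
structure Out (S A R₀ : Subgroup G) : Prop where
  mx : MxIn (o2 (CZ S)) A
  le : ∀ P, IsParS S P → A ≤ o2 (CP S P)
  long : IsLong S R₀
  not : ¬ A ≤ o2 R₀
  min : ∀ R, IsLong S R → R < R₀ → A ≤ o2 R

theorem ZP_le (S P : Subgroup G) : ZP S P ≤ zc S := inf_le_left

theorem le_CP (S P : Subgroup G) : P ≤ CP S P := by
  intro p hp
  rw [CP, mem_centralizer_iff]
  intro z hz
  exact (mem_centralizer_iff.1 hz.2 p hp).symm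

theorem CZ_le_CP (S P : Subgroup G) : CZ S ≤ CP S P := centralizer_le (SetLike.coe_subset_coe.2 (ZP_le S P))

end defs

section fin

variable {G : Type u} [Group G] [Finite G] {S : Sylow 2 G}

/-- the centraliser of a nontrivial subgroup of `Z` is long -/
theorem isLong_cent {Y : Subgroup G} (hY : Y ≤ zc (S : Subgroup G)) (h1 : Y ≠ ⊥) :
    IsLong (S : Subgroup G) (centralizer (Y : Set G)) := by
  have h2 : CZ (S : Subgroup G) ≤ centralizer (Y : Set G) := centralizer_le (SetLike.coe_subset_coe.2 hY)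
  exact ⟨isLoc_of_le_normalizer S ((le_CZ S).trans h2) (S.isPGroup'.to_le (hY.trans (zc_le _))) h1
    (centralizer_le_normalizer _), h2⟩

theorem isLong_CP (h1 : ¬ L1 (S : Subgroup G)) {P : Subgroup G} (hP : IsParS (S : Subgroup G) P) :
    IsLong (S : Subgroup G) (CP (S : Subgroup G) P) :=
  isLong_cent (ZP_le _ P) fun h => h1 ⟨P, hP, h⟩

theorem isLoc_sup (h1 : ¬ L1 (S : Subgroup G)) (h2 : ¬ L2 (S : Subgroup G)) {P P' : Subgroup G}
    (hP : IsParS (S : Subgroup G) P) (hP' : IsParS (S : Subgroup G) P') :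
    IsLoc (S : Subgroup G) (CP (S : Subgroup G) P ⊔ CP (S : Subgroup G) P') :=
  (not_nonLoc_iff S (isLong_CP h1 hP).loc.le).1 fun h => h2 ⟨P, P', hP, hP', h⟩

/-- no long group contains all `P ∈ P*(S)` -/
theorem not_long (hG : Ctx G) (hF : Full (S : Subgroup G)) :
    ¬ ∃ R, IsLong (S : Subgroup G) R ∧ ∀ R' ∈ fam (S : Subgroup G), R' ≤ R := by
  rintro ⟨R, hR, h1⟩
  refine hR.loc.o2_ne (eq_bot_of_norm hG S hF (MinSimple.VModule.o2_isPGroup R) (fun P hP => ?_) ?_)
  · exact ((le_CP _ P).trans (h1 _ ⟨P, hP, rfl⟩)).trans (MinSimple.VModule.le_normalizer_o2 R)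
  · exact hR.cz.trans (MinSimple.VModule.le_normalizer_o2 R)

/-- **not (L1), not (L2)** -/
theorem out_of (ml : MLK.{u, u}) (hG : Ctx G) (hF : Full (S : Subgroup G)) (h1 : ¬ L1 (S : Subgroup G))
    (h2 : ¬ L2 (S : Subgroup G)) : ∃ A R₀, Out (S : Subgroup G) A R₀ := by
  obtain ⟨A, R₀, hA, h3, h4, h5, h6⟩ := sigma (S := S) hG.char2 ml (fun R hR => kg_of hG R hR)
    (hG.sylow_ne_bot S) (RR := fam (S : Subgroup G))
    (by rintro _ ⟨P, hP, rfl⟩; exact isLong_CP h1 hP)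
    (by rintro _ ⟨P, hP, rfl⟩ _ ⟨P', hP', rfl⟩; exact isLoc_sup h1 h2 hP hP') (not_long hG hF)
  exact ⟨A, R₀, hA, fun P hP => h3 _ ⟨P, hP, rfl⟩, h4, h5, h6⟩

/-! ### `Thin S` -/

/-- (L1) fails if `Thin S`, `|Z| ≥ 4` -/
theorem not_L1 (ht : Thin (S : Subgroup G)) (h4 : 4 ≤ Nat.card (zc (S : Subgroup G))) :
    ¬ L1 (S : Subgroup G) := by
  rintro ⟨P, hP, h⟩
  have h1 := ht P hP
  rw [h, card_bot] at h1
  omega

/-- (L2) fails if `Thin S`, `|Z| ≥ 8` -/
theorem not_L2 (ht : Thin (S : Subgroup G)) (h8 : 8 ≤ Nat.card (zc (S : Subgroup G))) :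
    ¬ L2 (S : Subgroup G) := by
  rintro ⟨P, P', hP, hP', hn⟩
  set Y := zc (S : Subgroup G) ⊓ centralizer (P : Set G) with hY
  set Y' := zc (S : Subgroup G) ⊓ centralizer (P' : Set G) with hY'
  have h1 := ht P hP
  have h2 := ht P' hP'
  rw [← hY] at h1
  rw [← hY'] at h2
  have hYle : Y ≤ zc (S : Subgroup G) := inf_le_left
  have hYle' : Y' ≤ zc (S : Subgroup G) := inf_le_left
  have hne : Y ⊓ Y' ≠ ⊥ := by
    intro h0
    have h5 : Y'.relIndex Y = Nat.card Y := by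
      rw [← inf_relIndex_left, h0, relIndex_bot_left]
    have h3 : Nat.card Y ≤ Y'.relIndex (zc (S : Subgroup G)) := by
      rw [← h5]
      exact relIndex_le_of_le_right hYle FiniteIndex.index_ne_zero
    have h4 : Y'.relIndex (zc (S : Subgroup G)) = 2 := by
      have h6 : Nat.card Y' * Y'.relIndex (zc (S : Subgroup G)) = Nat.card (zc (S : Subgroup G)) := by
        rw [← Nat.card_congr (subgroupOfEquivOfLe hYle').toEquiv]
        exact (Y'.subgroupOf (zc (S : Subgroup G))).card_mul_index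
      have h7 : 0 < Nat.card Y' := Nat.card_pos
      nlinarith
    omega
  have hU := isLong_cent (S := S) (Y := Y ⊓ Y') (inf_le_left.trans hYle) hne
  refine hU.loc.o2_ne (hn _ (MinSimple.VModule.o2_isPGroup _) ?_ ?_)
  · exact (centralizer_le (SetLike.coe_subset_coe.2 inf_le_left)).trans (MinSimple.VModule.le_normalizer_o2 _)
  · exact (centralizer_le (SetLike.coe_subset_coe.2 inf_le_right)).trans (MinSimple.VModule.le_normalizer_o2 _)

end fin

/-! ### The sockets -/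

section sockets

variable (K : Cls.{u})

/-- **the end of THEOREM SIGMA** -/
def EndA : Prop :=
  ∀ (G : Type u) [Group G] [Finite G], K G → ∀ (S : Sylow 2 G), RB S →
    ∀ A R₀ : Subgroup G, Out (S : Subgroup G) A R₀ → False

/-- **the end of THEOREM SIGMA** for `Thin S` -/
def EndT : Prop :=
  ∀ (G : Type u) [Group G] [Finite G], K G → ∀ (S : Sylow 2 G), RB S → Thin (S : Subgroup G) →
    ∀ A R₀ : Subgroup G, Out (S : Subgroup G) A R₀ → False

/-- box R with not (L1), not (L2) -/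
def RSig : Prop :=
  ∀ (G : Type u) [Group G] [Finite G], K G → ∀ (S : Sylow 2 G), RB S →
    ¬ L1 (S : Subgroup G) → ¬ L2 (S : Subgroup G) → IsKnownSimple' G

/-- box R with `Thin S`, not (L2) -/
def RSigT : Prop :=
  ∀ (G : Type u) [Group G] [Finite G], K G → ∀ (S : Sylow 2 G), RB S → Thin (S : Subgroup G) →
    ¬ L2 (S : Subgroup G) → IsKnownSimple' G

/-- `RRed.RFour` with (L2) -/
def RFourL : Prop :=
  ∀ (G : Type u) [Group G] [Finite G], K G → ∀ (S : Sylow 2 G), RB S → RC S → Thin (S : Subgroup G) →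
    L2 (S : Subgroup G) → Nat.card (zc (S : Subgroup G)) = 4 →
      (∃ P, IsParS (S : Subgroup G) P ∧ Nat.card (zl (S : Subgroup G) P) ≠ 8) → IsKnownSimple' G

/-- `RRed.RWide` with (L1) or (L2) -/
def RWideL : Prop :=
  ∀ (G : Type u) [Group G] [Finite G], K G → ∀ (S : Sylow 2 G), RB S → RC S →
    (L1 (S : Subgroup G) ∨ L2 (S : Subgroup G)) → (∃ P, IsParS (S : Subgroup G) P ∧
      4 * Nat.card ↥(zc (S : Subgroup G) ⊓ centralizer (P : Set G)) ≤ Nat.card (zc (S : Subgroup G))) →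
      IsKnownSimple' G

/-- `RTree.RBz` with (L1) or (L2) -/
def RBzL : Prop :=
  ∀ (G : Type u) [Group G] [Finite G], K G → ∀ (S : Sylow 2 G), RB S →
    (L1 (S : Subgroup G) ∨ L2 (S : Subgroup G)) → ∀ z ∈ zc (S : Subgroup G), z ≠ 1 →
      (∀ P ∈ FZ (S : Subgroup G) z, P ≤ normalizer (bang (S : Subgroup G) : Set G)) → IsKnownSimple' G

/-- `RTree.RBz` with (L2) if `Thin S` -/
def RBzT : Prop :=
  ∀ (G : Type u) [Group G] [Finite G], K G → ∀ (S : Sylow 2 G), RB S →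
    (Thin (S : Subgroup G) → L2 (S : Subgroup G)) → ∀ z ∈ zc (S : Subgroup G), z ≠ 1 →
      (∀ P ∈ FZ (S : Subgroup G) z, P ≤ normalizer (bang (S : Subgroup G) : Set G)) → IsKnownSimple' G

end sockets

section main

variable {K : Cls.{u}}

theorem rsig_of (ml : MLK.{u, u}) (hE : EndA K) : RSig K := by
  intro G _ _ hK S B h1 h2
  obtain ⟨A, R₀, h⟩ := out_of ml B.ctx B.full h1 h2
  exact (hE G hK S B A R₀ h).elim

theorem rsigT_of (ml : MLK.{u, u}) (hE : EndT K) : RSigT K := by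
  intro G _ _ hK S B ht h2
  obtain ⟨A, R₀, h⟩ := out_of ml B.ctx B.full (not_L1 ht (RRed.four_le B)) h2
  exact (hE G hK S B ht A R₀ h).elim

theorem RSig.toT (h : RSig K) : RSigT K :=
  fun G _ _ hK S B ht h2 => h G hK S B (not_L1 ht (RRed.four_le B)) h2

theorem EndA.toT (h : EndA K) : EndT K := fun G _ _ hK S B _ => h G hK S B

/-- `|Z| ≥ 8`, all `|Z : C_Z(P)| = 2` -/
theorem rrank_of (h : RSigT K) : RRank K :=
  fun G _ _ hK S B _ ht h8 => h G hK S B ht (not_L2 ht h8)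

theorem rfour_of (h : RSigT K) (h4 : RFourL K) : RFour K := by
  intro G _ _ hK S B hrc ht hz hP
  by_cases h2 : L2 (S : Subgroup G)
  · exact h4 G hK S B hrc ht h2 hz hP
  · exact h G hK S B ht h2

theorem rwide_of (h : RSig K) (hW : RWideL K) : RWide K := by
  intro G _ _ hK S B hrc hP
  by_cases h1 : L1 (S : Subgroup G)
  · exact hW G hK S B hrc (Or.inl h1) hP
  by_cases h2 : L2 (S : Subgroup G)
  · exact hW G hK S B hrc (Or.inr h2) hP
  · exact h G hK S B h1 h2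

theorem rbz_of (h : RSig K) (hz : RBzL K) : RBz K := by
  intro G _ _ hK S B z hz1 hz2 hP
  by_cases h1 : L1 (S : Subgroup G)
  · exact hz G hK S B (Or.inl h1) z hz1 hz2 hP
  by_cases h2 : L2 (S : Subgroup G)
  · exact hz G hK S B (Or.inr h2) z hz1 hz2 hP
  · exact h G hK S B h1 h2

theorem rbz_ofT (h : RSigT K) (hz : RBzT K) : RBz K := by
  intro G _ _ hK S B z hz1 hz2 hP
  by_cases h0 : Thin (S : Subgroup G) → L2 (S : Subgroup G)
  · exact hz G hK S B h0 z hz1 hz2 hP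
  · push Not at h0
    exact h G hK S B h0.1 h0.2

/-- **(RC') from its leaves** -/
theorem rbc_sig (hL : LineS.{u}) (hS : SideS.{u}) (hT : TCR K) (h : RSig K) (h4 : RFourL K) (hW : RWideL K) :
    RBc K :=
  RRed.rbc_of hL hS hT (rrank_of h.toT) (rfour_of h.toT h4) (rwide_of h hW)

/-- **(RC') from its leaves**, `Thin` version -/
theorem rbc_sigT (hL : LineS.{u}) (hS : SideS.{u}) (hT : TCR K) (h : RSigT K) (h4 : RFourL K) (hW : RWide K) :
    RBc K :=
  RRed.rbc_of hL hS hT (rrank_of h) (rfour_of h h4) hW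

/-- **box R from its leaves** -/
theorem rg_sig (hA : RAbig K) (hz : RBzL K) (hL : LineS.{u}) (hS : SideS.{u}) (hT : TCR K) (h : RSig K)
    (h4 : RFourL K) (hW : RWideL K) : Merge.RG K :=
  RTree.rg_of hA (rbz_of h hz) (rbc_sig hL hS hT h h4 hW)

/-- **box R from its leaves**, `Thin` version -/
theorem rg_sigT (hA : RAbig K) (hz : RBzT K) (hL : LineS.{u}) (hS : SideS.{u}) (hT : TCR K) (h : RSigT K)
    (h4 : RFourL K) (hW : RWide K) : Merge.RG K :=
  RTree.rg_of hA (rbz_ofT h hz) (rbc_sigT hL hS hT h h4 hW)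

end main

end Cfsg.Agent.Omega.NOThreeL.Sigma
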