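import Cfsg.Agent.Mrg.Omega.NOThreeL.Sigma.Inst
import Cfsg.Agent.Mrg.Omega.ML.Ex.Two
import Cfsg.Agent.Mrg.Omega.NOThreeL.RRed.Glue
import Cfsg.Agent.Mrg.Omega.NOThreeL.Sigma.Glue

section


/-!
# THEOREM SIGMA (#22781), `Thin S`: the plug (helper739)

`MLK` and `Ext` imply `NoZ 2`, `EndT K`, `RSigT K` and `RRank K`.
-/

set_option autoImplicit false

namespace Cfsg.Agent.Omega.NOThreeL.Sigma.Rank

open Cfsg.Agent.Omega.Frame (Cls)
open Cfsg.Agent.Omega.ML.Final (MLK)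
open Cfsg.Agent.Omega.ML.Ex.Two (Ext)

universe u v

/-- no input `ZPre 2` -/
theorem noZ (ml : MLK.{u, v}) (hE : Ext.{u, v}) : Inst.NoZ.{u, v} 2 :=
  fun _ _ _ _ _ _ _ _ _ _ h => h.false_of ml hE

variable {K : Cls.{u}}

theorem endT (ml : MLK.{u, u}) (hE : Ext.{u, u}) : EndT K := Inst.endT_of ml (noZ ml hE)

/-- **THEOREM SIGMA for `Thin S`** -/
theorem rsigT (ml : MLK.{u, u}) (hE : Ext.{u, u}) : RSigT K := rsigT_of ml (endT ml hE)

/-- **THEOREM Z-RANK**: `RRank K` -/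
theorem rrank (ml : MLK.{u, u}) (hE : Ext.{u, u}) : RRed.RRank K := rrank_of (rsigT ml hE)

/-- `RFour K` with (L2) -/
theorem rfour (ml : MLK.{u, u}) (hE : Ext.{u, u}) (h4 : RFourL K) : RRed.RFour K := rfour_of (rsigT ml hE) h4

end Cfsg.Agent.Omega.NOThreeL.Sigma.Rank

end

section


/-!
# NO-3L, box R: THEOREM SIGMA on top, `Thin` version, and the plugs of `Sigma/Glue`

`RRed/GlueSig` uses THEOREM SIGMA for every `S` (`SigOf`).  If it is known only for `Thin S` (all `|Z : C_Z(P)| = 2`):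

* `SigTOf K B` : `B S`, `Thin S`, `¬ L2 S`;
* `WideAll K B` : `RR S = 1`, some `|Z : C_Z(P)| ≥ 4` (no (L1), (L2));
* `BrTOf K B` : `RR S ≠ 1`, (L2) if `Thin S`;
* `bnT_of`, `brT_of`, `rbnT_sig`, `rbrT_sig`, `rbcT_sig`, `rbzT_sig`, `rgT_sig`, `rbfT_sig`, `rbzFT_sig`, `rbcFT_sig`,
  `rgFT_sig` : the trees;
* `sigOf_of`, `sigTOf_of`, `sigOf_of_rsig`, `sigTOf_of_rsig` : the plugs from `Sigma/Glue`;
* `SigWOf K B` : THEOREM SIGMA with some `|Z : C_Z(P)| ≥ 4`; `sigOf_of_TW : SigTOf → SigWOf → SigOf`;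
* `sigT (ml) (hE : Ext) : SigTOf K B`, `sig (ml) (hE) : SigWOf → SigOf` : `SigTOf` is closed (`Sigma/Rank`);
* `rbzFT_ext`, `rbcFT_ext`, `rgFT_ext`, `rgT_ext` : the trees over `MLK`, `Ext` and `SmOf`, `FourOf`, `WideAll`, `BrTOf`.
-/

set_option autoImplicit false
set_option linter.unusedSectionVars false

namespace Cfsg.Agent.Omega.NOThreeL.RRed.GlueSig

open Subgroup Cfsg Cfsg.Agent.ZN Cfsg.Agent.Omega.MinPar Cfsg.Agent.Omega.Frame Cfsg.Agent.Omega.FrameNOFF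
open Cfsg.Agent.Omega.Node.NO3L Cfsg.Agent.Omega.NOThreeL.Basic Cfsg.Agent.Omega.NOThreeL.RTree
open Cfsg.Agent.Omega.NOThreeL.RTreeF
open Cfsg.Agent.Omega.NOThreeL.Merge (MZ)
open Cfsg.Agent.Omega.NOThreeL.ZCut (FZ)
open Cfsg.Agent.Omega.NO3b.Bang (bang)
open Cfsg.Agent.Omega.NOThreeL.RZ (RR)
open Cfsg.Agent.Omega.ML.Final (MLK)
open Cfsg.Agent.Omega.ML.Ex.Two (Ext)

universe u

section sockets

variable (K : Cls.{u}) (B : Fr.{u})

/-- **THEOREM SIGMA**, `Thin S`. -/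
def SigTOf : Prop :=
  ∀ (G : Type u) [Group G] [Finite G], K G → ∀ (S : Sylow 2 G), B G S → Thin (S : Subgroup G) →
    ¬ L2 (S : Subgroup G) → IsKnownSimple' G

/-- some `|Z : C_Z(P)| ≥ 4`. -/
def WideAll : Prop :=
  ∀ (G : Type u) [Group G] [Finite G], K G → ∀ (S : Sylow 2 G), B G S → RR (S : Subgroup G) = ⊥ →
    (∃ P, IsParS (S : Subgroup G) P ∧
      4 * Nat.card ↥(zc (S : Subgroup G) ⊓ centralizer (P : Set G)) ≤ Nat.card (zc (S : Subgroup G))) →
      IsKnownSimple' G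

/-- [R-z], (L2) if `Thin S`. -/
def BrTOf : Prop :=
  ∀ (G : Type u) [Group G] [Finite G], K G → ∀ (S : Sylow 2 G), B G S → RR (S : Subgroup G) ≠ ⊥ →
    (Thin (S : Subgroup G) → L2 (S : Subgroup G)) → IsKnownSimple' G

end sockets

section glue

variable {K : Cls.{u}} {B : Fr.{u}}

theorem SigTOf.mono {B' : Fr.{u}} (hB : ∀ (G : Type u) [Group G] [Finite G] (S : Sylow 2 G), B' G S → B G S)
    (h : SigTOf K B) : SigTOf K B' := fun G _ _ hK S hb => h G hK S (hB G S hb)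

theorem WideAll.mono {B' : Fr.{u}} (hB : ∀ (G : Type u) [Group G] [Finite G] (S : Sylow 2 G), B' G S → B G S)
    (h : WideAll K B) : WideAll K B' := fun G _ _ hK S hb => h G hK S (hB G S hb)

theorem BrTOf.mono {B' : Fr.{u}} (hB : ∀ (G : Type u) [Group G] [Finite G] (S : Sylow 2 G), B' G S → B G S)
    (h : BrTOf K B) : BrTOf K B' := fun G _ _ hK S hb => h G hK S (hB G S hb)

/-- `SigOf` implies `SigTOf` -/
theorem SigOf.toT (hb : ∀ (G : Type u) [Group G] [Finite G] (S : Sylow 2 G), B G S → RB S) (h : SigOf K B) :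
    SigTOf K B :=
  fun G _ _ hK S hB ht h2 => h G hK S hB (not_l1 ht (four_le (hb G S hB))) h2

/-- `WideAll` implies `WideOf` -/
theorem WideAll.toL (h : WideAll K B) : WideOf K B := fun G _ _ hK S hB hr hw _ => h G hK S hB hr hw

/-- `BrTOf` implies `BrOf` -/
theorem BrTOf.toL (hb : ∀ (G : Type u) [Group G] [Finite G] (S : Sylow 2 G), B G S → RB S) (h : BrTOf K B) :
    BrOf K B := fun G _ _ hK S hB hr h12 =>
  h G hK S hB hr fun ht => h12.resolve_left (not_l1 ht (four_le (hb G S hB)))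

/-- `WideOf` for a class where THEOREM SIGMA holds -/
theorem WideOf.toAll (hσ : SigOf K B) (h : WideOf K B) : WideAll K B := by
  intro G _ _ hK S hB hr hw
  rcases known_or hσ hK hB with h1 | h1
  · exact h1
  · exact h G hK S hB hr hw h1

/-- **`RR S = 1` from its leaves**, `Thin` version. -/
theorem bnT_of (hb : ∀ (G : Type u) [Group G] [Finite G] (S : Sylow 2 G), B G S → RB S) (hσ : SigTOf K B)
    (hs : SmOf K B) (h4 : FourOf K B) (hw : WideAll K B) : BnOf K B := by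
  intro G _ _ hK S hB hr
  rcases thin_or (S := S) with ht | hwd
  · by_cases h2 : L2 (S : Subgroup G)
    · have h4' := four_le (hb G S hB)
      have hz : Nat.card (zc (S : Subgroup G)) = 4 := by
        by_contra hz
        refine not_l2 S.isPGroup' ht ?_ h2
        have hf : Fact (Nat.Prime 2) := ⟨Nat.prime_two⟩
        obtain ⟨n, hn⟩ :=
          (IsPGroup.iff_card (p := 2)).1 (S.isPGroup'.to_le (MinSimple.VModule.zc_le (S : Subgroup G)))
        rw [hn] at h4' hz ⊢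
        have k2 : 2 ≤ n := by
          by_contra hcon
          have : 2 ^ n ≤ 2 ^ 1 := Nat.pow_le_pow_right (by norm_num) (by omega)
          omega
        have k3 : n ≠ 2 := by rintro rfl; exact hz (by norm_num)
        calc 8 = 2 ^ 3 := by norm_num
          _ ≤ 2 ^ n := Nat.pow_le_pow_right (by norm_num) (by omega)
      by_cases h : ∀ P, IsParS (S : Subgroup G) P → Nat.card (zl (S : Subgroup G) P) = 8
      · exact hs G hK S hB hr hz h h2
      · push Not at h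
        exact h4 G hK S hB hr ht hz h h2
    · exact hσ G hK S hB ht h2
  · exact hw G hK S hB hr hwd

/-- **`RR S ≠ 1` from its leaf**, `Thin` version. -/
theorem brT_of (hσ : SigTOf K B) (hr : BrTOf K B) : BrrOf K B := by
  intro G _ _ hK S hB hne
  by_cases h : Thin (S : Subgroup G) → L2 (S : Subgroup G)
  · exact hr G hK S hB hne h
  · push Not at h
    exact hσ G hK S hB h.1 h.2

end glue

/-! ### The tree of `RTree` -/

section tree

variable {K : Cls.{u}}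

theorem rbnT_sig (hσ : SigTOf K FB.{u}) (hs : SmOf K FB.{u}) (h4 : FourOf K FB.{u}) (hw : WideAll K FB.{u}) :
    RZ.RBn K := bnT_of (fun _ _ _ _ h => h) hσ hs h4 hw

theorem rbrT_sig (hσ : SigTOf K FB.{u}) (hr : BrTOf K FB.{u}) : RZ.RBr K := brT_of hσ hr

theorem rbcT_sig (hσ : SigTOf K FB.{u}) (hs : SmOf K FB.{u}) (h4 : FourOf K FB.{u}) (hw : WideAll K FB.{u}) :
    RBc K := RZ.rbc_of (rbnT_sig hσ hs h4 hw)

theorem rbzT_sig (hσ : SigTOf K FB.{u}) (hs : SmOf K FB.{u}) (h4 : FourOf K FB.{u}) (hw : WideAll K FB.{u})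
    (hr : BrTOf K FB.{u}) : RBz K := RZ.rbz_of (rbrT_sig hσ hr) (rbnT_sig hσ hs h4 hw)

/-- **Box R.** -/
theorem rgT_sig (hN : RTreeA.NatBig.{u}) (hσ : SigTOf K FB.{u}) (hs : SmOf K FB.{u}) (h4 : FourOf K FB.{u})
    (hw : WideAll K FB.{u}) (hr : BrTOf K FB.{u}) : Merge.RG K :=
  RTreeA.rg_of' hN (rbzT_sig hσ hs h4 hw hr) (rbcT_sig hσ hs h4 hw)

end tree

/-! ### The tree of `RTreeF` -/

section treeF

variable {K : Cls.{u}}

theorem rbfT_sig (hσ : SigTOf K FBF.{u}) (hs : SmOf K FBF.{u}) (h4 : FourOf K FBF.{u}) (hw : WideAll K FBF.{u})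
    (hr : BrTOf K FBF.{u}) {G : Type u} [Group G] [Finite G] (hK : K G) {S : Sylow 2 G} (hB : RBF S) :
    IsKnownSimple' G := by
  by_cases h : RR (S : Subgroup G) = ⊥
  · exact bnT_of toRB hσ hs h4 hw G hK S hB h
  · exact brT_of hσ hr G hK S hB h

theorem rbzFT_sig (hσ : SigTOf K FBF.{u}) (hs : SmOf K FBF.{u}) (h4 : FourOf K FBF.{u}) (hw : WideAll K FBF.{u})
    (hr : BrTOf K FBF.{u}) : RBzF K :=
  fun _ _ _ hK _ hB _ _ _ _ => rbfT_sig hσ hs h4 hw hr hK hB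

theorem rbcFT_sig (hσ : SigTOf K FBF.{u}) (hs : SmOf K FBF.{u}) (h4 : FourOf K FBF.{u}) (hw : WideAll K FBF.{u}) :
    RBcF K :=
  fun G _ _ hK S hB hc => bnT_of toRB hσ hs h4 hw G hK S hB (RZ.eq_bot_of_rc hc)

/-- **Box R.** -/
theorem rgFT_sig (T : RLow.Parts.{u}) (hN : RTreeA.NatBig.{u}) (hσ : SigTOf K FBF.{u}) (hs : SmOf K FBF.{u})
    (h4 : FourOf K FBF.{u}) (hw : WideAll K FBF.{u}) (hr : BrTOf K FBF.{u}) : Merge.RG K :=
  RTreeF.rg_of T (raBig_of hN) (rbzFT_sig hσ hs h4 hw hr) (rbcFT_sig hσ hs h4 hw)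

end treeF

/-! ### The plugs of `Sigma/Glue` -/

section plug

variable {K : Cls.{u}}

theorem sigOf_of_rsig (h : Sigma.RSig K) : SigOf K FB.{u} := h

theorem sigTOf_of_rsig (h : Sigma.RSigT K) : SigTOf K FB.{u} := h

/-- **THEOREM SIGMA from its end.** -/
theorem sigOf_of (ml : MLK.{u, u}) (hE : Sigma.EndA K) : SigOf K FB.{u} := Sigma.rsig_of ml hE

/-- **THEOREM SIGMA from its end**, `Thin` version. -/
theorem sigTOf_of (ml : MLK.{u, u}) (hE : Sigma.EndT K) : SigTOf K FB.{u} := Sigma.rsigT_of ml hE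

/-! ### `SigTOf` is closed -/

/-- **THEOREM SIGMA**, some `|Z : C_Z(P)| ≥ 4`. -/
def SigWOf (K : Cls.{u}) (B : Fr.{u}) : Prop :=
  ∀ (G : Type u) [Group G] [Finite G], K G → ∀ (S : Sylow 2 G), B G S →
    (∃ P, IsParS (S : Subgroup G) P ∧
      4 * Nat.card ↥(zc (S : Subgroup G) ⊓ centralizer (P : Set G)) ≤ Nat.card (zc (S : Subgroup G))) →
      ¬ L1 (S : Subgroup G) → ¬ L2 (S : Subgroup G) → IsKnownSimple' G

variable {B : Fr.{u}}

theorem SigWOf.mono {B' : Fr.{u}} (hB : ∀ (G : Type u) [Group G] [Finite G] (S : Sylow 2 G), B' G S → B G S)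
    (h : SigWOf K B) : SigWOf K B' := fun G _ _ hK S hb => h G hK S (hB G S hb)

theorem sigOf_of_TW (hT : SigTOf K B) (hW : SigWOf K B) : SigOf K B := by
  intro G _ _ hK S hB h1 h2
  rcases thin_or (S := S) with ht | hwd
  · exact hT G hK S hB ht h2
  · exact hW G hK S hB hwd h1 h2

theorem wideAll_of (hW : SigWOf K B) (h : WideOf K B) : WideAll K B := by
  intro G _ _ hK S hB hr hw
  by_cases h1 : L1 (S : Subgroup G)
  · exact h G hK S hB hr hw (Or.inl h1)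
  · by_cases h2 : L2 (S : Subgroup G)
    · exact h G hK S hB hr hw (Or.inr h2)
    · exact hW G hK S hB hw h1 h2

/-- **THEOREM SIGMA for `Thin S`, every frame.** -/
theorem sigT (ml : MLK.{u, u}) (hE : Ext.{u, u})
    (hb : ∀ (G : Type u) [Group G] [Finite G] (S : Sylow 2 G), B G S → RB S) : SigTOf K B :=
  fun G _ _ hK S hB ht h2 => Sigma.Rank.rsigT (K := K) ml hE G hK S (hb G S hB) ht h2

/-- **THEOREM SIGMA from the case some `|Z : C_Z(P)| ≥ 4`.** -/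
theorem sig (ml : MLK.{u, u}) (hE : Ext.{u, u})
    (hb : ∀ (G : Type u) [Group G] [Finite G] (S : Sylow 2 G), B G S → RB S) (hW : SigWOf K B) : SigOf K B :=
  sigOf_of_TW (sigT ml hE hb) hW

theorem rbzFT_ext (ml : MLK.{u, u}) (hE : Ext.{u, u}) (hs : SmOf K FBF.{u}) (h4 : FourOf K FBF.{u})
    (hw : WideAll K FBF.{u}) (hr : BrTOf K FBF.{u}) : RBzF K :=
  rbzFT_sig (sigT ml hE toRB) hs h4 hw hr

theorem rbcFT_ext (ml : MLK.{u, u}) (hE : Ext.{u, u}) (hs : SmOf K FBF.{u}) (h4 : FourOf K FBF.{u})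
    (hw : WideAll K FBF.{u}) : RBcF K :=
  rbcFT_sig (sigT ml hE toRB) hs h4 hw

/-- **Box R** over `MLK`, `Ext` and four sockets. -/
theorem rgFT_ext (T : RLow.Parts.{u}) (hN : RTreeA.NatBig.{u}) (ml : MLK.{u, u}) (hE : Ext.{u, u})
    (hs : SmOf K FBF.{u}) (h4 : FourOf K FBF.{u}) (hw : WideAll K FBF.{u}) (hr : BrTOf K FBF.{u}) : Merge.RG K :=
  rgFT_sig T hN (sigT ml hE toRB) hs h4 hw hr

/-- **Box R** over `MLK`, `Ext` and four sockets. -/
theorem rgT_ext (hN : RTreeA.NatBig.{u}) (ml : MLK.{u, u}) (hE : Ext.{u, u}) (hs : SmOf K FB.{u})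
    (h4 : FourOf K FB.{u}) (hw : WideAll K FB.{u}) (hr : BrTOf K FB.{u}) : Merge.RG K :=
  rgT_sig hN (sigT ml hE fun _ _ _ _ h => h) hs h4 hw hr

end plug

end Cfsg.Agent.Omega.NOThreeL.RRed.GlueSig

end
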